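import Mathlib.GroupTheory.PGroup
import Mathlib.GroupTheory.Index
import Mathlib.Algebra.BigOperators.Group.Finset.Defs
import Mathlib.Algebra.Group.Submonoid.BigOperators
import Mathlib.RingTheory.Coprime.Lemmas
import Mathlib.RingTheory.PrincipalIdealDomain
import Mathlib.RingTheory.Int.Basic
import Mathlib.Data.Nat.Prime.Int
import Mathlib.Data.Fintype.Sets
import Mathlib.Data.SetLike.Fintype
import Mathlib.GroupTheory.QuotientGroup.Basic
import Mathlib.Algebra.BigOperators.Group.Finset.Basic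
import Mathlib.Data.Set.Finite.Basic
import Mathlib.Order.Preorder.Finite

/-!
# Invariant complements in elementary abelian sections

For a group `X` of automorphisms, of order prime to `p`, of a finite abelian group `A`, and
invariant subgroups `C ≤ E ≤ U` with `U ^ p ≤ C`, there is an invariant `W` between `C` and `U`
with `W ⊓ E = C` and `W ⊔ E = U`.
-/

set_option autoImplicit false

namespace CfsgLib.AbelianCoprime

variable {A : Type*} [CommGroup A]

/-- A subgroup stable under every element of `X`. -/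
def Invariant (X : Subgroup (MulAut A)) (B : Subgroup A) : Prop := ∀ x ∈ X, ∀ b ∈ B, x b ∈ B

theorem invariant_iff {X : Subgroup (MulAut A)} {B : Subgroup A} :
    Invariant X B ↔ ∀ x ∈ X, B.map x.toMonoidHom = B := by
  refine ⟨fun h x hx => le_antisymm ?_ ?_, fun h x hx b hb => ?_⟩
  · rintro _ ⟨b, hb, rfl⟩
    exact h x hx b hb
  · intro b hb
    exact ⟨x⁻¹ b, h _ (inv_mem hx) b hb, x.apply_symm_apply b⟩
  · rw [← h x hx]
    exact ⟨b, hb, rfl⟩

theorem Invariant.inf {X : Subgroup (MulAut A)} {B C : Subgroup A} (hB : Invariant X B)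
    (hC : Invariant X C) : Invariant X (B ⊓ C) :=
  fun x hx b hb => ⟨hB x hx b hb.1, hC x hx b hb.2⟩

theorem Invariant.sup {X : Subgroup (MulAut A)} {B C : Subgroup A} (hB : Invariant X B)
    (hC : Invariant X C) : Invariant X (B ⊔ C) := by
  intro x hx b hb
  rw [Subgroup.mem_sup] at hb ⊢
  obtain ⟨u, hu, v, hv, rfl⟩ := hb
  exact ⟨x u, hB x hx u hu, x v, hC x hx v hv, (map_mul x u v).symm⟩

theorem Invariant.bot (X : Subgroup (MulAut A)) : Invariant X (⊥ : Subgroup A) :=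
  fun x _ b hb => by rw [Subgroup.mem_bot.mp hb, map_one]; exact one_mem _

variable [Finite A]

theorem exists_complement {p : ℕ} [hp : Fact p.Prime] {C E U : Subgroup A} (hCE : C ≤ E)
    (hEU : E ≤ U) (hpow : ∀ u ∈ U, u ^ p ∈ C) :
    ∃ W, C ≤ W ∧ W ≤ U ∧ W ⊓ E = C ∧ W ⊔ E = U := by
  obtain ⟨W, hW, hmax⟩ := Set.Finite.exists_maximalFor id {W : Subgroup A | C ≤ W ∧ W ≤ U ∧ W ⊓ E = C}
    (Set.toFinite _) ⟨C, le_rfl, hCE.trans hEU, inf_eq_left.mpr hCE⟩
  obtain ⟨hCW, hWU, hWE⟩ := hW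
  refine ⟨W, hCW, hWU, hWE, le_antisymm (sup_le hWU hEU) fun u hu => ?_⟩
  by_contra hnot
  have hle : W ≤ W ⊔ Subgroup.zpowers u := le_sup_left
  have hmem : W ⊔ Subgroup.zpowers u ∈ {W : Subgroup A | C ≤ W ∧ W ≤ U ∧ W ⊓ E = C} := by
    refine ⟨hCW.trans hle, sup_le hWU (Subgroup.zpowers_le.mpr hu), le_antisymm ?_ ?_⟩
    · rintro a ⟨ha, haE⟩
      obtain ⟨w, hw, _, ⟨j, rfl⟩, rfl⟩ := Subgroup.mem_sup.mp ha
      have hwU : u ^ j ∈ W ⊔ E := by
        have h1 : w⁻¹ * (w * u ^ j) ∈ W ⊔ E :=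
          mul_mem (Subgroup.mem_sup_left (inv_mem hw)) (Subgroup.mem_sup_right haE)
        rwa [inv_mul_cancel_left] at h1
      by_cases hj : (p : ℤ) ∣ j
      · obtain ⟨i, rfl⟩ := hj
        rw [← hWE]
        refine ⟨mul_mem hw ?_, haE⟩
        show u ^ ((p : ℤ) * i) ∈ W
        rw [zpow_mul, zpow_natCast]
        exact zpow_mem (hCW (hpow u hu)) i
      · exfalso
        have hg : IsCoprime (p : ℤ) j :=
          Prime.coprime_iff_not_dvd (Nat.prime_iff_prime_int.mp hp.out) |>.mpr hj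
        obtain ⟨a, b, hab⟩ := hg
        refine hnot ?_
        have : u = (u ^ p) ^ a * (u ^ j) ^ b := by
          rw [← zpow_natCast u p, ← zpow_mul, ← zpow_mul, ← zpow_add, mul_comm (p : ℤ), mul_comm j,
            hab, zpow_one]
        rw [this]
        exact mul_mem (zpow_mem (Subgroup.mem_sup_left (hCW (hpow u hu))) a) (zpow_mem hwU b)
    · exact le_inf (hCW.trans hle) hCE
  have := hmax hmem hle
  exact hnot (Subgroup.mem_sup_left (this (Subgroup.mem_sup_right (Subgroup.mem_zpowers u))))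

theorem exists_invariant_complement {p : ℕ} [hp : Fact p.Prime] {X : Subgroup (MulAut A)}
    (hX : (Nat.card X).Coprime p) {C E U : Subgroup A} (hCE : C ≤ E) (hEU : E ≤ U)
    (hpow : ∀ u ∈ U, u ^ p ∈ C) (iC : Invariant X C) (iE : Invariant X E) (iU : Invariant X U) :
    ∃ W, C ≤ W ∧ W ≤ U ∧ Invariant X W ∧ W ⊓ E = C ∧ W ⊔ E = U := by
  classical
  obtain ⟨W₀, hCW, hWU, hWE, hsup⟩ := exists_complement hCE hEU hpow
  have hdec : ∀ u ∈ U, ∃ e ∈ E, e⁻¹ * u ∈ W₀ := by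
    intro u hu
    rw [← hsup] at hu
    obtain ⟨w, hw, e, he, rfl⟩ := Subgroup.mem_sup.mp hu
    exact ⟨e, he, by rw [mul_comm w e, inv_mul_cancel_left]; exact hw⟩
  let r : A → A := fun u => if h : u ∈ U then (hdec u h).choose else 1
  have hr : ∀ u ∈ U, r u ∈ E ∧ (r u)⁻¹ * u ∈ W₀ := fun u hu => by
    simp only [r, dif_pos hu]; exact (hdec u hu).choose_spec
  have huniq : ∀ u ∈ U, ∀ e ∈ E, e⁻¹ * u ∈ W₀ → (r u)⁻¹ * e ∈ C := by
    intro u hu e he hew
    rw [← hWE]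
    refine ⟨?_, E.mul_mem (E.inv_mem (hr u hu).1) he⟩
    have h := mul_mem (hr u hu).2 (inv_mem hew)
    rwa [mul_inv_rev, inv_inv, mul_assoc, mul_inv_cancel_left] at h
  have hfin : Finite (MulAut A) :=
    Finite.of_injective (fun f => (f : A → A)) DFunLike.coe_injective
  let _ : Fintype X := Fintype.ofFinite X
  let P : A → A := fun u => ∏ x : X, (x : MulAut A) (r ((x : MulAut A)⁻¹ u))
  have hPE : ∀ u ∈ U, P u ∈ E := fun u hu =>
    prod_mem fun x _ => iE x x.2 _ (hr _ (iU _ (inv_mem x.2) u hu)).1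
  have hmk : ∀ (x : X) {a b : A}, (a : A ⧸ C) = b →
      ((x : MulAut A) a : A ⧸ C) = ((x : MulAut A) b : A ⧸ C) := by
    intro x a b h
    rw [QuotientGroup.eq] at h ⊢
    rw [← map_inv, ← map_mul]
    exact iC x x.2 _ h
  have hPmk : ∀ u, (P u : A ⧸ C) = ∏ x : X, ((x : MulAut A) (r ((x : MulAut A)⁻¹ u)) : A ⧸ C) :=
    fun u => map_prod (QuotientGroup.mk' C) _ _
  have hrmul : ∀ u ∈ U, ∀ v ∈ U, (r (u * v) : A ⧸ C) = (r u * r v : A) := by
    intro u hu v hv
    refine QuotientGroup.eq.mpr (huniq _ (mul_mem hu hv) _ (mul_mem (hr u hu).1 (hr v hv).1) ?_)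
    rw [mul_inv_rev, mul_comm (r v)⁻¹, mul_mul_mul_comm]
    exact mul_mem (hr u hu).2 (hr v hv).2
  have hPmul : ∀ u ∈ U, ∀ v ∈ U, (P (u * v) : A ⧸ C) = (P u : A ⧸ C) * P v := by
    intro u hu v hv
    rw [hPmk, hPmk, hPmk, ← Finset.prod_mul_distrib]
    refine Finset.prod_congr rfl fun x _ => ?_
    rw [map_mul, hmk x (hrmul _ (iU _ (inv_mem x.2) u hu) _ (iU _ (inv_mem x.2) v hv)), map_mul,
      QuotientGroup.mk_mul]
  have hPe : ∀ e ∈ E, (P e : A ⧸ C) = (e : A ⧸ C) ^ Nat.card X := by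
    intro e he
    rw [hPmk, Nat.card_eq_fintype_card, ← Finset.card_univ]
    refine Finset.prod_eq_pow_card fun x _ => ?_
    have hxe : (x : MulAut A)⁻¹ e ∈ E := iE _ (inv_mem x.2) e he
    have h1 : (r ((x : MulAut A)⁻¹ e) : A ⧸ C) = ((x : MulAut A)⁻¹ e : A) :=
      QuotientGroup.eq.mpr (huniq _ (hEU hxe) _ hxe (by rw [inv_mul_cancel]; exact one_mem _))
    rw [hmk x h1]
    exact congrArg _ ((x : MulAut A).apply_symm_apply e)
  have hP1 : (P 1 : A ⧸ C) = 1 := by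
    rw [hPe 1 (one_mem E), QuotientGroup.mk_one, one_pow]
  have hequiv : ∀ y : X, ∀ u, P ((y : MulAut A) u) = (y : MulAut A) (P u) := by
    intro y u
    simp only [P, map_prod]
    rw [← Equiv.prod_comp (Equiv.mulLeft y)]
    refine Finset.prod_congr rfl fun z _ => ?_
    simp [mul_inv_rev]
  let W : Subgroup A :=
    { carrier := {u | u ∈ U ∧ (P u : A ⧸ C) = 1}
      one_mem' := ⟨one_mem U, hP1⟩
      mul_mem' := fun {a b} ha hb =>
        ⟨mul_mem ha.1 hb.1, by rw [hPmul a ha.1 b hb.1, ha.2, hb.2, one_mul]⟩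
      inv_mem' := fun {a} ha => by
        refine ⟨inv_mem ha.1, ?_⟩
        have h := hPmul a ha.1 a⁻¹ (inv_mem ha.1)
        rw [mul_inv_cancel, hP1, ha.2, one_mul] at h
        exact h.symm }
  have hCW' : C ≤ W := fun c hc => ⟨hEU (hCE hc), by
    rw [hPe c (hCE hc), (QuotientGroup.eq_one_iff c).mpr hc, one_pow]⟩
  obtain ⟨s, hs⟩ : ∃ s, ∀ a ∈ U, ((a : A ⧸ C) ^ Nat.card X) ^ s = (a : A ⧸ C) := by
    obtain ⟨s, hs⟩ := Nat.exists_mul_mod_eq_one_of_coprime hX hp.out.one_lt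
    refine ⟨s, fun a ha => ?_⟩
    have hap : (a : A ⧸ C) ^ p = 1 := by
      rw [← QuotientGroup.mk_pow, QuotientGroup.eq_one_iff]; exact hpow a ha
    rw [← pow_mul, pow_eq_pow_mod _ hap, hs.2, pow_one]
  refine ⟨W, hCW', fun u hu => hu.1, ?_, le_antisymm ?_ (le_inf hCW' hCE),
    le_antisymm (sup_le (fun u hu => hu.1) hEU) fun u hu => ?_⟩
  · rintro x hx u ⟨hu, hPu⟩
    refine ⟨iU x hx u hu, ?_⟩
    rw [hequiv ⟨x, hx⟩ u, QuotientGroup.eq_one_iff]
    exact iC x hx _ ((QuotientGroup.eq_one_iff _).mp hPu)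
  · rintro e ⟨⟨heU, hPe'⟩, heE⟩
    rw [hPe e heE] at hPe'
    have := hs e heU
    rw [hPe', one_pow] at this
    exact (QuotientGroup.eq_one_iff e).mp this.symm
  · have he : P u ^ s ∈ E := pow_mem (hPE u hu) s
    have hmem : u * (P u ^ s)⁻¹ ∈ W := by
      refine ⟨mul_mem hu (inv_mem (hEU he)), ?_⟩
      rw [hPmul u hu _ (inv_mem (hEU he)), hPe _ (inv_mem he), QuotientGroup.mk_inv,
        QuotientGroup.mk_pow, inv_pow, ← pow_mul, mul_comm s, pow_mul, hs _ (hEU (hPE u hu)),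
        mul_inv_cancel]
    rw [show u = u * (P u ^ s)⁻¹ * P u ^ s by group]
    exact mul_mem (Subgroup.mem_sup_left hmem) (Subgroup.mem_sup_right he)

end CfsgLib.AbelianCoprime
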